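import Groth.Prelude.Def_ToposFin2
import Groth.Agent.Lib.Topos.QCAlg
import Mathlib.CategoryTheory.Abelian.FunctorCategory
import Mathlib.Algebra.Homology.ShortComplex.PreservesHomology
import Mathlib.AlgebraicTopology.AlternatingFaceMapComplex
import Mathlib.Algebra.Category.Grp.FilteredColimits
import Mathlib.CategoryTheory.Limits.Types.Pullbacks
import Mathlib.Data.Fin.Tuple.Basic

/-!
# The free Čech complex of a morphism of sheaves of sets

For `f : L ⟶ X` the complex `… → ℤ[L ×_X L] → ℤ[L] → ℤ[X]` is exact in positive degrees, already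
as a complex of presheaves.
-/

set_option autoImplicit false
set_option linter.style.haveILetI false

universe u

open CategoryTheory CategoryTheory.Limits Opposite ToposFin

namespace GrothLib.CohTopos20

variable {C : Type u} [SmallCategory C] {J : GrothendieckTopology C} {X L : Sh J} (f : L ⟶ X)

/-- the map on sections -/
abbrev fs (V : Cᵒᵖ) (a : L.obj.obj V) : X.obj.obj V := f.hom.app V a

theorem fs_map {V W : Cᵒᵖ} (g : V ⟶ W) (a : L.obj.obj V) :
    fs f W (L.obj.map g a) = X.obj.map g (fs f V a) :=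
  NatTrans.naturality_apply f.hom g a

/-- `(n+1)`-tuples of sections with the same image -/
def Tup (n : ℕ) (V : Cᵒᵖ) : Type u :=
  {v : Fin (n + 1) → L.obj.obj V // ∀ k, fs f V (v k) = fs f V (v 0)}

variable {f}

theorem Tup.rel {n : ℕ} {V : Cᵒᵖ} (v : Tup f n V) (i j : Fin (n + 1)) :
    fs f V (v.1 i) = fs f V (v.1 j) := (v.2 i).trans (v.2 j).symm

/-- reindexing -/
def Tup.comap {n m : ℕ} {V : Cᵒᵖ} (v : Tup f n V) (a : Fin (m + 1) → Fin (n + 1)) : Tup f m V :=
  ⟨v.1 ∘ a, fun _ => v.rel _ _⟩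

variable (f)

theorem exact_of_evaluation (S : ShortComplex (Cᵒᵖ ⥤ AddCommGrpCat.{u}))
    (h : ∀ V, (S.map ((evaluation Cᵒᵖ AddCommGrpCat.{u}).obj V)).Exact) : S.Exact :=
  S.exact_iff_isZero_homology.2 (Functor.isZero _ fun V =>
    ((S.map ((evaluation Cᵒᵖ AddCommGrpCat.{u}).obj V)).exact_iff_isZero_homology.1 (h V)).of_iso
      (S.mapHomologyIso ((evaluation Cᵒᵖ AddCommGrpCat.{u}).obj V)).symm)

/-- the fibre powers, as presheaves -/
def tupPre (n : ℕ) : Cᵒᵖ ⥤ Type u where
  obj V := Tup f n V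
  map g := ↾fun v => ⟨fun k => L.obj.map g (v.1 k), fun k => by
    rw [fs_map, fs_map, v.2 k]⟩
  map_id V := by
    ext v
    apply Subtype.ext
    funext k
    exact ConcreteCategory.congr_hom (L.obj.map_id V) (v.1 k)
  map_comp g h := by
    ext v
    apply Subtype.ext
    funext k
    exact ConcreteCategory.congr_hom (L.obj.map_comp g h) (v.1 k)

/-- the simplicial presheaf -/
def simp : SimplicialObject (Cᵒᵖ ⥤ Type u) where
  obj Δ := tupPre f Δ.unop.len
  map α := { app := fun V => ↾fun v => Tup.comap v α.unop.toOrderHom }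

/-- the simplicial presheaf of abelian groups -/
noncomputable def simpAb : SimplicialObject (Cᵒᵖ ⥤ AddCommGrpCat.{u}) :=
  ((SimplicialObject.whiskering _ _).obj
    ((Functor.whiskeringRight _ _ _).obj AddCommGrpCat.free.{u})).obj (simp f)

/-- the free presheaves on the fibre powers -/
noncomputable abbrev tupAb (n : ℕ) : Cᵒᵖ ⥤ AddCommGrpCat.{u} :=
  tupPre f n ⋙ AddCommGrpCat.free.{u}

/-- the differential -/
noncomputable def dPre (n : ℕ) : tupAb f (n + 1) ⟶ tupAb f n :=
  AlgebraicTopology.AlternatingFaceMapComplex.objD (simpAb f) n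

theorem dPre_comp (n : ℕ) : dPre f (n + 1) ≫ dPre f n = 0 :=
  AlgebraicTopology.AlternatingFaceMapComplex.d_squared (simpAb f) n

/-- the augmentation, on sets -/
def augT : tupPre f 0 ⟶ X.obj where
  app V := ↾fun v => fs f V (v.1 0)
  naturality V W g := by
    ext v
    exact fs_map f g (v.1 0)

/-- the augmentation -/
noncomputable def aug : tupAb f 0 ⟶ X.obj ⋙ AddCommGrpCat.free.{u} :=
  Functor.whiskerRight (augT f) _

theorem dPre_of (n : ℕ) (V : Cᵒᵖ) (v : Tup f (n + 1) V) :
    (dPre f n).app V (FreeAbelianGroup.of v) =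
      ∑ i : Fin (n + 2), (-1 : ℤ) ^ (i : ℕ) •
        (FreeAbelianGroup.of (Tup.comap v i.succAbove) : FreeAbelianGroup (Tup f n V)) := by
  have key : ∀ i : Fin (n + 2), ((simpAb f).δ i).app V (FreeAbelianGroup.of v) =
      (FreeAbelianGroup.of (Tup.comap v i.succAbove) : FreeAbelianGroup (Tup f n V)) := fun i =>
    FreeAbelianGroup.map_of_apply v
  change ((∑ i : Fin (n + 2), (-1 : ℤ) ^ (i : ℕ) • (simpAb f).δ i).app V) (FreeAbelianGroup.of v) = _
  let ev : ((simpAb f).obj (op (SimplexCategory.mk (n + 1))) ⟶ (simpAb f).obj (op (SimplexCategory.mk n))) →+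
      (FreeAbelianGroup (Tup f (n + 1) V) →+ FreeAbelianGroup (Tup f n V)) :=
    { toFun := fun φ => (φ.app V).hom
      map_zero' := rfl
      map_add' := fun _ _ => rfl }
  change ev (∑ i : Fin (n + 2), (-1 : ℤ) ^ (i : ℕ) • (simpAb f).δ i) (FreeAbelianGroup.of v) = _
  rw [map_sum, AddMonoidHom.finsetSum_apply]
  refine Finset.sum_congr rfl fun i _ => ?_
  rw [map_zsmul, AddMonoidHom.smul_apply]
  exact congrArg _ (key i)

theorem aug_of (V : Cᵒᵖ) (v : Tup f 0 V) :
    (aug f).app V (FreeAbelianGroup.of v) =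
      (FreeAbelianGroup.of (fs f V (v.1 0)) : FreeAbelianGroup (X.obj.obj V)) :=
  FreeAbelianGroup.map_of_apply v

/-- the differential on sections -/
noncomputable def dHom (n : ℕ) (V : Cᵒᵖ) :
    FreeAbelianGroup (Tup f (n + 1) V) →+ FreeAbelianGroup (Tup f n V) :=
  ((dPre f n).app V).hom

/-- the augmentation on sections -/
noncomputable def augHom (V : Cᵒᵖ) :
    FreeAbelianGroup (Tup f 0 V) →+ FreeAbelianGroup (X.obj.obj V) :=
  ((aug f).app V).hom

theorem dHom_of (n : ℕ) (V : Cᵒᵖ) (v : Tup f (n + 1) V) :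
    dHom f n V (FreeAbelianGroup.of v) =
      ∑ i : Fin (n + 2), (-1 : ℤ) ^ (i : ℕ) • FreeAbelianGroup.of (Tup.comap v i.succAbove) :=
  dPre_of f n V v

theorem augHom_of (V : Cᵒᵖ) (v : Tup f 0 V) :
    augHom f V (FreeAbelianGroup.of v) = FreeAbelianGroup.of (fs f V (v.1 0)) :=
  aug_of f V v

theorem dPre_aug : dPre f 0 ≫ aug f = 0 := by
  ext V : 2
  apply AddCommGrpCat.hom_ext
  apply FreeAbelianGroup.lift_ext
  intro v
  change Tup f 1 V at v
  change augHom f V (dHom f 0 V (FreeAbelianGroup.of v)) = 0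
  rw [dHom_of, map_sum, Fin.sum_univ_two, map_zsmul, map_zsmul, augHom_of, augHom_of]
  have : fs f V ((Tup.comap v (Fin.succAbove (0 : Fin 2))).1 0) =
      fs f V ((Tup.comap v (Fin.succAbove (1 : Fin 2))).1 0) := v.rel _ _
  rw [this]
  simp

/-- a chosen preimage of an element in the image -/
noncomputable def pick (V : Cᵒᵖ) (x : X.obj.obj V) (h : ∃ a, fs f V a = x) : L.obj.obj V := h.choose

theorem fs_pick (V : Cᵒᵖ) (x : X.obj.obj V) (h : ∃ a, fs f V a = x) : fs f V (pick f V x h) = x :=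
  h.choose_spec

theorem pick_congr (V : Cᵒᵖ) {x y : X.obj.obj V} (e : x = y) (h : ∃ a, fs f V a = x)
    (h' : ∃ a, fs f V a = y) : pick f V x h = pick f V y h' := by
  subst e; rfl

variable {f} in
/-- prepend the chosen preimage -/
noncomputable def Tup.ext' {n : ℕ} {V : Cᵒᵖ} (v : Tup f n V) : Tup f (n + 1) V :=
  ⟨Fin.cons (pick f V (fs f V (v.1 0)) ⟨_, rfl⟩) v.1, fun k => by
    refine Fin.cases rfl (fun k => ?_) k
    rw [Fin.cons_succ, Fin.cons_zero, fs_pick]
    exact v.2 k⟩

theorem ext'_comap_zero {n : ℕ} {V : Cᵒᵖ} (v : Tup f n V) :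
    Tup.comap v.ext' (Fin.succAbove (0 : Fin (n + 2))) = v := by
  apply Subtype.ext
  funext k
  simp [Tup.ext', Tup.comap, Fin.succAbove_zero]

theorem ext'_comap_succ {n : ℕ} {V : Cᵒᵖ} (v : Tup f (n + 1) V) (i : Fin (n + 2)) :
    Tup.comap v.ext' (i.succ.succAbove) = (Tup.comap v i.succAbove).ext' := by
  apply Subtype.ext
  funext k
  refine Fin.cases ?_ (fun k => ?_) k
  · simp only [Tup.comap, Tup.ext', Function.comp_apply, Fin.succ_succAbove_zero, Fin.cons_zero]
    exact pick_congr f V (v.rel _ _) _ _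
  · simp [Tup.comap, Tup.ext', Fin.removeNth_apply]

/-- the contraction -/
noncomputable def htp (n : ℕ) (V : Cᵒᵖ) :
    FreeAbelianGroup (Tup f n V) →+ FreeAbelianGroup (Tup f (n + 1) V) :=
  FreeAbelianGroup.map fun v => v.ext'

theorem htp_eq (n : ℕ) (V : Cᵒᵖ) (z : FreeAbelianGroup (Tup f (n + 1) V)) :
    dHom f (n + 1) V (htp f (n + 1) V z) + htp f n V (dHom f n V z) = z := by
  induction z using FreeAbelianGroup.induction_on with
  | zero =>
    simp only [map_zero, add_zero]
  | of v =>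
    unfold htp
    rw [FreeAbelianGroup.map_of_apply, dHom_of, dHom_of, map_sum, Fin.sum_univ_succ, ext'_comap_zero]
    simp only [map_zsmul, FreeAbelianGroup.map_of_apply, ext'_comap_succ, Fin.val_succ, pow_succ,
      mul_neg_one, neg_smul, Finset.sum_neg_distrib, Fin.val_zero, pow_zero, one_smul]
    abel
  | neg v hv =>
    simp only [map_neg]
    rw [← neg_add, hv]
  | add a b ha hb =>
    simp only [map_add]
    rw [add_add_add_comm, ha, hb]

theorem exact_dPre (n : ℕ) : (ShortComplex.mk _ _ (dPre_comp f n)).Exact := by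
  refine exact_of_evaluation _ fun V => ?_
  rw [ShortComplex.ab_exact_iff]
  intro z hz
  refine ⟨htp f (n + 1) V z, ?_⟩
  change FreeAbelianGroup (Tup f (n + 1) V) at z
  change dHom f n V z = 0 at hz
  have := htp_eq f n V z
  rw [hz, map_zero, add_zero] at this
  exact this

open Classical in
/-- the section in degree `-1` -/
noncomputable def tau (V : Cᵒᵖ) : FreeAbelianGroup (X.obj.obj V) →+ FreeAbelianGroup (Tup f 0 V) :=
  FreeAbelianGroup.lift fun x =>
    if h : ∃ a, fs f V a = x then FreeAbelianGroup.of ⟨fun _ => pick f V x h, fun _ => rfl⟩ else 0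

theorem htp_eq_zero (V : Cᵒᵖ) (z : FreeAbelianGroup (Tup f 0 V)) :
    dHom f 0 V (htp f 0 V z) + tau f V (augHom f V z) = z := by
  induction z using FreeAbelianGroup.induction_on with
  | zero =>
    simp only [map_zero, add_zero]
  | of v =>
    unfold htp tau
    rw [FreeAbelianGroup.map_of_apply, dHom_of, Fin.sum_univ_succ, ext'_comap_zero, augHom_of,
      FreeAbelianGroup.lift_apply_of, dif_pos ⟨_, rfl⟩]
    have e : Tup.comap v.ext' (Fin.succ (0 : Fin 1)).succAbove =
        ⟨fun _ => pick f V (fs f V (v.1 0)) ⟨_, rfl⟩, fun _ => rfl⟩ := by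
      apply Subtype.ext
      funext k
      rw [Fin.fin_one_eq_zero k]
      simp [Tup.comap, Tup.ext']
    rw [Fin.sum_univ_one, e]
    simp
  | neg v hv =>
    simp only [map_neg]
    rw [← neg_add, hv]
  | add a b ha hb =>
    simp only [map_add]
    rw [add_add_add_comm, ha, hb]

theorem exact_aug : (ShortComplex.mk _ _ (dPre_aug f)).Exact := by
  refine exact_of_evaluation _ fun V => ?_
  rw [ShortComplex.ab_exact_iff]
  intro z hz
  refine ⟨htp f 0 V z, ?_⟩
  change FreeAbelianGroup (Tup f 0 V) at z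
  change augHom f V z = 0 at hz
  have := htp_eq_zero f V z
  rw [hz, map_zero, add_zero] at this
  exact this

/-- adding a first coordinate -/
def consMap (n : ℕ) : tupPre f (n + 1) ⟶ tupPre f n where
  app V := ↾fun v => Tup.comap v Fin.succ

/-- the first coordinate -/
def headMap (n : ℕ) : tupPre f n ⟶ L.obj where
  app V := ↾fun v => v.1 0

theorem isIso_headMap : IsIso (headMap f 0) := by
  refine (NatTrans.isIso_iff_isIso_app _).2 fun V => (isIso_iff_bijective _).2 ⟨fun v v' h => ?_,
    fun a => ⟨⟨fun _ => a, fun _ => rfl⟩, rfl⟩⟩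
  apply Subtype.ext
  funext k
  rw [Fin.fin_one_eq_zero k]
  exact h

/-- the common image -/
def imgMap (n : ℕ) : tupPre f n ⟶ X.obj := headMap f n ≫ f.hom

theorem isPullback_tup (n : ℕ) :
    IsPullback (consMap f n) (headMap f (n + 1)) (imgMap f n) f.hom := by
  have w : consMap f n ≫ imgMap f n = headMap f (n + 1) ≫ f.hom := by
    ext V v
    exact v.rel _ _
  have : ∀ V, IsPullback ((consMap f n).app V) ((headMap f (n + 1)).app V) ((imgMap f n).app V)
      (f.hom.app V) := fun V => by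
    rw [Types.isPullback_iff]
    refine ⟨NatTrans.congr_app w V, fun v v' h => ?_, fun a b hab => ?_⟩
    · apply Subtype.ext
      funext k
      refine Fin.cases h.2 (fun k => ?_) k
      exact congrFun (congrArg Subtype.val h.1) k
    · refine ⟨⟨Fin.cons b a.1, fun k => ?_⟩, ?_, rfl⟩
      · refine Fin.cases rfl (fun k => ?_) k
        rw [Fin.cons_succ, Fin.cons_zero]
        exact (a.2 k).trans hab
      · apply Subtype.ext
        funext k
        rfl
  exact IsPullback.of_forall_isPullback_app this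

/-- The fibre powers are sheaves, coherent if `X` and `L` are coherent and `f` quasi-separated. -/
theorem exists_coherent (hf : IsQSHom f) (hX : IsCoherent X) (hL : IsCoherent L) :
    ∀ n : ℕ, ∃ Q : Sh J, IsCoherent Q ∧ Nonempty (Q.obj ≅ tupPre f n)
  | 0 => ⟨L, hL, ⟨(@asIso _ _ _ _ (headMap f 0) (isIso_headMap f)).symm⟩⟩
  | n + 1 => by
    obtain ⟨Q, hQ, ⟨e⟩⟩ := exists_coherent hf hX hL n
    let g : Q ⟶ X := ⟨e.hom ≫ imgMap f n⟩
    refine ⟨pullback g f, ⟨hX.2 _ _ g f hQ.1 hL.1, ?_⟩, ⟨?_⟩⟩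
    · have h2 := Topos.QC.isQSHom_of_isPullback (IsPullback.of_hasPullback g f).flip
        hf
      exact Topos.QC.isQS_of_isQSHom h2 hQ.2
    · have sq : IsPullback (consMap f n ≫ e.inv) (headMap f (n + 1)) g.hom f.hom :=
        (isPullback_tup f n).of_iso (Iso.refl _) e.symm (Iso.refl _) (Iso.refl _)
          (Category.id_comp _).symm (by simp) (by simp [g]) (by simp)
      exact IsPullback.isoIsPullback _ _
        ((IsPullback.of_hasPullback g f).map (sheafToPresheaf J (Type u))) sq

end GrothLib.CohTopos20
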