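import Groth.Agent.Lib.CohTopos20.Cech
import Groth.Agent.Lib.ColimCoh.Abstract
import Groth.Agent.Lib.Topos.QCColim
import Mathlib.Algebra.Category.Grp.AB
import Mathlib.CategoryTheory.Sites.PreservesSheafification
import Mathlib.CategoryTheory.Sites.Adjunction
import Mathlib.Algebra.Category.Grp.Adjunctions

/-!
# Ext groups out of "coherent" abelian sheaves commute with filtered colimits

`Nice N`: `N` has a left resolution by free abelian sheaves on coherent objects.  The kernels of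
the free Čech complex show that classes in positive degree on a coherent object are killed by a
coherent cover with nice kernel, whence the vanishing on filtered colimits of injectives.
-/

set_option autoImplicit false
set_option linter.style.haveILetI false

universe u

open CategoryTheory CategoryTheory.Limits Opposite ToposFin Abelian

namespace GrothLib.CohTopos20

variable {C : Type u} [SmallCategory C] {J : GrothendieckTopology C}

/-- free abelian sheaves -/
noncomputable abbrev zf (J : GrothendieckTopology C) : Sh J ⥤ Sheaf J AddCommGrpCat.{u} := freeAb J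

/-- the underlying sheaf of sets -/
noncomputable abbrev und (J : GrothendieckTopology C) : Sheaf J AddCommGrpCat.{u} ⥤ Sh J :=
  sheafCompose J (forget AddCommGrpCat.{u})

/-- free/forgetful -/
noncomputable def zfAdj (J : GrothendieckTopology C) : zf J ⊣ und J :=
  Sheaf.adjunction J AddCommGrpCat.adj.{u}

instance : (zf J).IsLeftAdjoint := (zfAdj J).isLeftAdjoint

instance preservesColimitsOfShape_und (Λ : Type u) [SmallCategory Λ] [IsFiltered Λ] :
    PreservesColimitsOfShape Λ (und J) := by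
  constructor
  intro D
  let L := presheafToSheaf J AddCommGrpCat.{u}
  have e : L ⋙ und J ≅
      (Functor.whiskeringRight _ _ _).obj (forget AddCommGrpCat.{u}) ⋙ presheafToSheaf J (Type u) :=
    (sheafComposeNatIso J (forget AddCommGrpCat.{u}) (sheafificationAdjunction J _)
      (sheafificationAdjunction J _)).symm
  haveI : PreservesColimitsOfShape Λ (L ⋙ und J) := preservesColimitsOfShape_of_natIso e.symm
  let D' := D ⋙ sheafToPresheaf J AddCommGrpCat.{u}
  haveI : PreservesColimit (D' ⋙ L) (und J) :=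
    preservesColimit_of_preserves_colimit_cocone
      (isColimitOfPreserves L (colimit.isColimit D'))
      (isColimitOfPreserves (L ⋙ und J) (colimit.isColimit D'))
  exact preservesColimit_of_iso_diagram (und J) (Functor.associator _ _ _ ≪≫
    Functor.isoWhiskerLeft D (asIso (sheafificationAdjunction J AddCommGrpCat.{u}).counit) ≪≫ D.rightUnitor :
    D' ⋙ L ≅ D)

instance : (und J).PreservesEpimorphisms where
  preserves f hf := by
    haveI : Sheaf.IsLocallySurjective f := (Sheaf.isLocallySurjective_iff_epi' AddCommGrpCat.{u} f).2 hf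
    exact (Sheaf.isLocallySurjective_iff_epi' (Type u) _).1 inferInstance

variable (S : Set (Sh J))

/-- coherent objects receiving only quasi-separated morphisms from members of `S` -/
def Base (K : Sh J) : Prop := IsCoherent K ∧ ∀ A ∈ S, ∀ h : A ⟶ K, IsQSHom h

theorem Base.of_hom {K X : Sh J} (hX : Base S X) (m : K ⟶ X) (hK : IsCoherent K) : Base S K :=
  ⟨hK, fun A hA h => Topos.QC.isQSHom_of_comp (hX.2 A hA (h ≫ m))⟩

theorem base_of_mem (hqc : ∀ K ∈ S, IsQC K) (hgen : IsGenerating S) (hpb : ClosedUnderPullbacks S)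
    {K : Sh J} (hK : K ∈ S) : Base S K := by
  have hc := fun {A : Sh J} (hA : A ∈ S) => Topos.QC.isCoherent_of_mem hqc hgen hpb hA
  refine ⟨hc hK, fun A hA h => Topos.QC.isQSHom_of_cover_qs_products
    (Topos.QC.hasQCGenerators_of_isGenerating hqc hgen) h
    (Topos.QC.fam_single (𝟙 A) : Topos.QC.Fam (fun _ : PUnit.{u + 1} => 𝟙 A))
    (fun _ => hqc A hA) (fun i j => ?_) (hc hA).2⟩
  obtain ⟨P, p, q, hP, sq⟩ := hpb (𝟙 A ≫ h) (𝟙 A ≫ h) hA hA hK
  exact (Topos.QC.isCoherent_of_iso sq.isoPullback (hc hP)).2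

theorem base_of_algebraic (hE : IsAlgebraic J) (hS : ∀ A ∈ S, IsCoherent A) {K : Sh J}
    (hK : IsCoherent K) : Base S K :=
  ⟨hK, fun A hA h => Topos.QC.isQSHom_of_isQS_of_algebraic hE h (hS A hA).2⟩

/-! ### Nice objects -/

/-- A class closed under taking the kernel of a presentation by a base object. -/
def Closed (P : Sheaf J AddCommGrpCat.{u} → Prop) : Prop :=
  ∀ M, P M → IsZero M ∨ ∃ (K : Sh J) (p : (zf J).obj K ⟶ M), Base S K ∧ Epi p ∧ P (kernel p)

/-- Having a left resolution by free sheaves on base objects. -/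
def Nice (N : Sheaf J AddCommGrpCat.{u}) : Prop := ∃ P, Closed S P ∧ P N

variable {S}

theorem Nice.exists {N : Sheaf J AddCommGrpCat.{u}} (h : Nice S N) :
    IsZero N ∨ ∃ (K : Sh J) (p : (zf J).obj K ⟶ N), Base S K ∧ Epi p ∧ Nice S (kernel p) := by
  obtain ⟨P, hP, hN⟩ := h
  rcases hP N hN with h0 | ⟨K, p, hK, hp, hk⟩
  · exact Or.inl h0
  · exact Or.inr ⟨K, p, hK, hp, P, hP, hk⟩

theorem Nice.of_iso {N N' : Sheaf J AddCommGrpCat.{u}} (h : Nice S N) (e : N ≅ N') : Nice S N' := by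
  obtain ⟨P, hP, hN⟩ := h
  refine ⟨fun M => ∃ M₀, P M₀ ∧ Nonempty (M₀ ≅ M), fun M ⟨M₀, h₀, ⟨e₀⟩⟩ => ?_, N, hN, ⟨e⟩⟩
  rcases hP M₀ h₀ with h0 | ⟨K, p, hK, hp, hk⟩
  · exact Or.inl (h0.of_iso e₀.symm)
  · exact Or.inr ⟨K, p ≫ e₀.hom, hK, epi_comp _ _, _, hk, ⟨(kernelCompMono p e₀.hom).symm⟩⟩

theorem Nice.mk {N : Sheaf J AddCommGrpCat.{u}} {K : Sh J} (p : (zf J).obj K ⟶ N) (hK : Base S K)
    [Epi p] (h : Nice S (kernel p)) : Nice S N := by
  obtain ⟨P, hP, hk⟩ := h
  refine ⟨fun M => P M ∨ M = N, fun M hM => ?_, Or.inr rfl⟩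
  rcases hM with hM | rfl
  · rcases hP M hM with h0 | ⟨L, q, hL, hq, hkq⟩
    · exact Or.inl h0
    · exact Or.inr ⟨L, q, hL, hq, Or.inl hkq⟩
  · exact Or.inr ⟨K, p, hK, inferInstance, Or.inl hk⟩

theorem Nice.of_isZero {N : Sheaf J AddCommGrpCat.{u}} (h : IsZero N) : Nice S N :=
  ⟨fun M => IsZero M, fun _ hM => Or.inl hM, h⟩

theorem nice_free {K : Sh J} (hK : Base S K) : Nice S ((zf J).obj K) :=
  Nice.mk (𝟙 _) hK (Nice.of_isZero (isZero_kernel_of_mono _))

section Cech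

variable {X L : Sh J} (f : L ⟶ X)

/-- `ker (∂ : ℤ[L^{n+2}] → ℤ[L^{n+1}])` -/
noncomputable abbrev kerD (n : ℕ) : Sheaf J AddCommGrpCat.{u} :=
  kernel ((presheafToSheaf J AddCommGrpCat.{u}).map (dPre f n))

/-- `ker (ℤ[L] → ℤ[X])` -/
noncomputable abbrev kerA : Sheaf J AddCommGrpCat.{u} :=
  kernel ((presheafToSheaf J AddCommGrpCat.{u}).map (aug f))

theorem exists_present {K : Sh J} (T : ShortComplex (Cᵒᵖ ⥤ AddCommGrpCat.{u})) (hT : T.Exact)
    (e : (zf J).obj K ≅ (presheafToSheaf J AddCommGrpCat.{u}).obj T.X₁) :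
    ∃ p : (zf J).obj K ⟶ kernel ((presheafToSheaf J AddCommGrpCat.{u}).map T.g),
      Epi p ∧ Nonempty (kernel p ≅ kernel ((presheafToSheaf J AddCommGrpCat.{u}).map T.f)) := by
  let T' := T.map (presheafToSheaf J AddCommGrpCat.{u})
  let lf := kernel.lift T'.g T'.f T'.zero
  have hlf : Epi lf := T'.exact_iff_epi_kernel_lift.1 (hT.map _)
  exact ⟨e.hom ≫ lf, @epi_comp _ _ _ _ _ e.hom inferInstance lf hlf,
    ⟨kernelIsIsoComp e.hom lf ≪≫ (kernelCompMono lf (kernel.ι T'.g)).symm ≪≫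
      kernelIsoOfEq (kernel.lift_ι T'.g T'.f T'.zero)⟩⟩

theorem nice_kerA (hf : IsQSHom f) (hX : Base S X) (hL : IsCoherent L) : Nice S (kerA f) := by
  refine ⟨fun M => Nonempty (kerA f ≅ M) ∨ ∃ n, Nonempty (kerD f n ≅ M), fun M hM => Or.inr ?_,
    Or.inl ⟨Iso.refl _⟩⟩
  have hbase : ∀ n, ∃ Q : Sh J, Base S Q ∧
      Nonempty ((zf J).obj Q ≅ (presheafToSheaf J AddCommGrpCat.{u}).obj (tupAb f n)) := fun n => by
    obtain ⟨Q, hQ, ⟨e⟩⟩ := exists_coherent f hf hX.1 hL n
    let m : Q ⟶ X := ⟨e.hom ≫ imgMap f n⟩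
    exact ⟨Q, hX.of_hom S m hQ, ⟨(presheafToSheaf J AddCommGrpCat.{u}).mapIso
      (((Functor.whiskeringRight _ _ _).obj AddCommGrpCat.free.{u}).mapIso e)⟩⟩
  rcases hM with ⟨⟨e₀⟩⟩ | ⟨n, ⟨e₀⟩⟩
  · obtain ⟨Q, hQ, ⟨eQ⟩⟩ := hbase 1
    obtain ⟨p, hp, ⟨k⟩⟩ := exists_present _ (exact_aug f) eQ
    exact ⟨Q, p ≫ e₀.hom, hQ, epi_comp _ _, Or.inr ⟨0, ⟨(kernelCompMono p e₀.hom ≪≫ k).symm⟩⟩⟩
  · obtain ⟨Q, hQ, ⟨eQ⟩⟩ := hbase (n + 2)
    obtain ⟨p, hp, ⟨k⟩⟩ := exists_present _ (exact_dPre f n) eQ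
    exact ⟨Q, p ≫ e₀.hom, hQ, epi_comp _ _, Or.inr ⟨n + 1, ⟨(kernelCompMono p e₀.hom ≪≫ k).symm⟩⟩⟩

theorem nice_kernel (hf : IsQSHom f) (hX : Base S X) (hL : IsCoherent L) :
    Nice S (kernel ((zf J).map f)) := by
  haveI := isIso_headMap f
  let e : (presheafToSheaf J AddCommGrpCat.{u}).obj (tupAb f 0) ≅ (zf J).obj L :=
    (presheafToSheaf J AddCommGrpCat.{u}).mapIso
      (((Functor.whiskeringRight _ _ _).obj AddCommGrpCat.free.{u}).mapIso (asIso (headMap f 0)))
  have he : (presheafToSheaf J AddCommGrpCat.{u}).map (aug f) = e.hom ≫ (zf J).map f := by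
    change (presheafToSheaf J AddCommGrpCat.{u}).map _ =
      (presheafToSheaf J AddCommGrpCat.{u}).map _ ≫ (presheafToSheaf J AddCommGrpCat.{u}).map _
    rw [← Functor.map_comp]
    congr 1
    exact Functor.whiskerRight_comp (headMap f 0) f.hom AddCommGrpCat.free.{u}
  exact (nice_kerA f hf hX hL).of_iso (kernelIsoOfEq he ≪≫ kernelIsIsoComp _ _)

theorem nice_cokernel (hf : IsQSHom f) (hX : Base S X) (hL : IsCoherent L) :
    Nice S (cokernel ((zf J).map f)) := by
  refine Nice.mk (cokernel.π ((zf J).map f)) hX ?_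
  let T := ShortComplex.mk _ _ (cokernel.condition ((zf J).map f))
  haveI : Epi (kernel.lift T.g T.f T.zero) :=
    T.exact_iff_epi_kernel_lift.1 (ShortComplex.exact_of_g_is_cokernel T (cokernelIsCokernel _))
  refine Nice.mk (kernel.lift T.g T.f T.zero) (hX.of_hom S f hL) ?_
  exact (nice_kernel f hf hX hL).of_iso
    (kernelIsoOfEq (kernel.lift_ι T.g T.f T.zero).symm ≪≫ kernelCompMono _ _)

end Cech

/-! ### Killing classes -/

variable (hgen : IsGenerating S) (hS : ∀ A ∈ S, IsCoherent A)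

include hgen hS in
theorem exists_cover {X W : Sh J} (hX : Base S X) (a : W ⟶ X) [Epi a] :
    ∃ (L : Sh J) (l : L ⟶ W), IsCoherent L ∧ Epi (l ≫ a) ∧ IsQSHom (l ≫ a) := by
  obtain ⟨ι, F, π, hF, hπ⟩ := hgen W
  have hfam : Topos.QC.Fam (fun i => π i ≫ a) := fun Z x y hxy =>
    (cancel_epi a).1 (hπ _ _ _ fun i => by simpa using hxy i)
  obtain ⟨s, hs⟩ := Topos.QC.IsQC.exists_finset hX.1.1 hfam
  refine ⟨∐ fun i : s => F i, Sigma.desc fun i : s => π i,
    Topos.QC.isCoherent_sigma _ fun i => hS _ (hF i), ?_, ?_⟩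
  · have : Sigma.desc (fun i : s => π i) ≫ a = Sigma.desc (fun i : s => π i ≫ a) :=
      Sigma.hom_ext _ _ fun i => by simp
    rw [this]
    exact (Topos.QC.epi_sigmaDesc_iff_fam _).2 hs
  · refine (Topos.QC.isQSHom_cofan_desc_iff (coproductIsCoproduct fun i : s => F i) _).2 fun i => ?_
    exact hX.2 _ (hF i) _

include hgen hS in
theorem exists_kill : ∀ (q : ℕ) {X : Sh J} (_ : Base S X) (F : Sheaf J AddCommGrpCat.{u})
    (c : Ext ((zf J).obj X) F (q + 1)),
    ∃ (L : Sh J) (g : L ⟶ X), IsCoherent L ∧ Epi g ∧ IsQSHom g ∧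
      (Ext.mk₀ ((zf J).map g)).comp c (zero_add _) = 0 := by
  intro q
  induction q with
  | zero =>
    intro X hX F c
    let T := ShortComplex.mk (Injective.ι F) (cokernel.π (Injective.ι F)) (cokernel.condition _)
    have hT : T.ShortExact := { exact := ShortComplex.exact_of_g_is_cokernel _ (cokernelIsCokernel _) }
    obtain ⟨x, hx⟩ := Ext.covariant_sequence_exact₁ _ hT c (Ext.eq_zero_of_injective _) rfl
    obtain ⟨φ, rfl⟩ := (Ext.mk₀_bijective _ _).2 x
    let φ' := (zfAdj J).homEquiv X _ φ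
    haveI : Epi (pullback.fst φ' ((und J).map T.g)) := by
      haveI : Epi T.g := hT.epi_g
      haveI : Epi ((und J).map T.g) := inferInstance
      exact ⟨fun x y hxy => Topos.QC.fam_pullback'
        (Topos.QC.fam_single.{u} ((und J).map T.g)) φ' _ x y fun _ => hxy⟩
    obtain ⟨L, l, hL, hep, hqs⟩ := exists_cover hgen hS hX (pullback.fst φ' ((und J).map T.g))
    refine ⟨L, _, hL, hep, hqs, ?_⟩
    let ψ := ((zfAdj J).homEquiv L _).symm (l ≫ pullback.snd φ' ((und J).map T.g))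
    have hψ : (zf J).map (l ≫ pullback.fst φ' ((und J).map T.g)) ≫ φ = ψ ≫ T.g := by
      apply ((zfAdj J).homEquiv L _).injective
      rw [Adjunction.homEquiv_naturality_left, Adjunction.homEquiv_naturality_right,
        Equiv.apply_symm_apply, Category.assoc, Category.assoc, pullback.condition]
    rw [← hx, Ext.mk₀_comp_mk₀_assoc, hψ, ← Ext.mk₀_comp_mk₀_assoc, hT.comp_extClass, Ext.comp_zero]
  | succ q ih =>
    intro X hX F c
    let T := ShortComplex.mk (Injective.ι F) (cokernel.π (Injective.ι F)) (cokernel.condition _)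
    have hT : T.ShortExact := { exact := ShortComplex.exact_of_g_is_cokernel _ (cokernelIsCokernel _) }
    obtain ⟨x, hx⟩ := Ext.covariant_sequence_exact₁ _ hT c (Ext.eq_zero_of_injective _) rfl
    obtain ⟨L, g, hL, hep, hqs, hk⟩ := ih hX _ x
    refine ⟨L, g, hL, hep, hqs, ?_⟩
    rw [← hx, ← Ext.comp_assoc _ _ _ (zero_add (q + 1)) rfl (by omega), hk, Ext.zero_comp]

/-! ### Colimits -/

variable {Λ : Type u} [SmallCategory Λ] [IsFiltered Λ]

include hgen hS in
theorem hom_free {K : Sh J} (hK : Base S K) (D : Λ ⥤ Sheaf J AddCommGrpCat.{u}) :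
    (∀ φ : (zf J).obj K ⟶ colimit D, ∃ (i : Λ) (ψ : (zf J).obj K ⟶ D.obj i), ψ ≫ colimit.ι D i = φ) ∧
    ∀ (i : Λ) (ψ : (zf J).obj K ⟶ D.obj i), ψ ≫ colimit.ι D i = 0 →
      ∃ (j : Λ) (a : i ⟶ j), ψ ≫ D.map a = 0 := by
  have hfp := Topos.QC.isFP_of_isCoherent
    (Topos.QC.hasQCGenerators_of_isGenerating (fun A hA => (hS A hA).1) hgen) hK.1 Λ (D ⋙ und J)
  haveI : IsIso (colimit.post (D ⋙ und J) (coyoneda.obj (op K))) := (isIso_iff_bijective _).2 hfp
  haveI := preservesColimit_of_isIso_post (G := coyoneda.obj (op K)) (F := D ⋙ und J)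
  let hc := isColimitOfPreserves (coyoneda.obj (op K))
    (isColimitOfPreserves (und J) (colimit.isColimit D))
  let e := fun Y => (zfAdj J).homEquiv K Y
  constructor
  · intro φ
    obtain ⟨i, x, hx⟩ := Types.jointly_surjective _ hc (e _ φ)
    refine ⟨i, (e _).symm x, (e _).injective ?_⟩
    rw [Adjunction.homEquiv_naturality_right, Equiv.apply_symm_apply]
    exact hx
  · intro i ψ hψ
    have h2 : e _ ψ ≫ (und J).map (colimit.ι D i) = e _ 0 ≫ (und J).map (colimit.ι D i) := by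
      rw [← Adjunction.homEquiv_naturality_right, ← Adjunction.homEquiv_naturality_right, hψ, zero_comp]
    obtain ⟨j, a, b, hab⟩ := (Types.FilteredColimit.isColimit_eq_iff _ hc).1 h2
    refine ⟨IsFiltered.coeq a b, a ≫ IsFiltered.coeqHom a b, ?_⟩
    have h3 : ψ ≫ D.map a = 0 ≫ D.map b := (e _).injective (by
      rw [Adjunction.homEquiv_naturality_right, Adjunction.homEquiv_naturality_right]; exact hab)
    rw [D.map_comp, ← Category.assoc, h3, zero_comp, zero_comp]

include hgen hS in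
theorem hom_kill {N : Sheaf J AddCommGrpCat.{u}} (hN : Nice S N) (D : Λ ⥤ Sheaf J AddCommGrpCat.{u})
    (i : Λ) (ψ : N ⟶ D.obj i) (h : ψ ≫ colimit.ι D i = 0) : ∃ (j : Λ) (a : i ⟶ j), ψ ≫ D.map a = 0 := by
  rcases hN.exists with h0 | ⟨K, p, hK, hp, -⟩
  · exact ⟨i, 𝟙 i, h0.eq_of_src _ _⟩
  · obtain ⟨j, a, ha⟩ := (hom_free hgen hS hK D).2 i (p ≫ ψ) (by rw [Category.assoc, h, comp_zero])
    exact ⟨j, a, (cancel_epi p).1 (by rw [← Category.assoc, ha, comp_zero])⟩

include hgen hS in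
theorem hom_gen {N : Sheaf J AddCommGrpCat.{u}} (hN : Nice S N) (D : Λ ⥤ Sheaf J AddCommGrpCat.{u})
    (φ : N ⟶ colimit D) : ∃ (i : Λ) (ψ : N ⟶ D.obj i), ψ ≫ colimit.ι D i = φ := by
  rcases hN.exists with h0 | ⟨K, p, hK, hp, hk⟩
  · exact ⟨IsFiltered.nonempty.some, 0, h0.eq_of_src _ _⟩
  · obtain ⟨i, ψ, hψ⟩ := (hom_free hgen hS hK D).1 (p ≫ φ)
    obtain ⟨j, a, ha⟩ := hom_kill hgen hS hk D i (kernel.ι p ≫ ψ) (by
      rw [Category.assoc, hψ, ← Category.assoc, kernel.condition, zero_comp])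
    let T := ShortComplex.mk _ _ (kernel.condition p)
    have hT : T.ShortExact := { exact := ShortComplex.exact_of_f_is_kernel _ (kernelIsKernel _) }
    refine ⟨j, hT.exact.desc (ψ ≫ D.map a) (by rw [← Category.assoc]; exact ha), (cancel_epi p).1 ?_⟩
    rw [← Category.assoc]
    refine (congrArg (· ≫ colimit.ι D j) (hT.exact.g_desc _ _)).trans ?_
    rw [Category.assoc, colimit.w, hψ]

include hgen hS in
theorem gen_zero {N : Sheaf J AddCommGrpCat.{u}} (hN : Nice S N) (D : Λ ⥤ Sheaf J AddCommGrpCat.{u}) :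
    ColimCoh.Gen N 0 D ∧ ColimCoh.Kill N 0 D := by
  refine ⟨fun x => ?_, fun i y hy => ?_⟩
  · obtain ⟨φ, rfl⟩ := (Ext.mk₀_bijective _ _).2 x
    obtain ⟨i, ψ, hψ⟩ := hom_gen hgen hS hN D φ
    exact ⟨i, Ext.mk₀ ψ, by rw [Ext.mk₀_comp_mk₀, hψ]⟩
  · obtain ⟨ψ, rfl⟩ := (Ext.mk₀_bijective _ _).2 y
    rw [Ext.mk₀_comp_mk₀, Ext.mk₀_eq_zero_iff] at hy
    obtain ⟨j, a, ha⟩ := hom_kill hgen hS hN D i ψ hy
    exact ⟨j, a, by rw [Ext.mk₀_comp_mk₀, ha, Ext.mk₀_zero]⟩

/-- If classes of degree `q` on the kernel come from a stage, a class of degree `q + 1` killed by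
the presentation vanishes on a colimit of injectives. -/
theorem eq_zero_of_comp_eq_zero {P N : Sheaf J AddCommGrpCat.{u}} (p : P ⟶ N) [Epi p] (q : ℕ)
    (D : Λ ⥤ Sheaf J AddCommGrpCat.{u}) (hD : ∀ i, Injective (D.obj i))
    (hgq : ColimCoh.Gen (kernel p) q D) (c : Ext N (colimit D) (q + 1))
    (hc : (Ext.mk₀ p).comp c (zero_add _) = 0) : c = 0 := by
  let T := ShortComplex.mk _ _ (kernel.condition p)
  have hT : T.ShortExact := { exact := ShortComplex.exact_of_f_is_kernel _ (kernelIsKernel _) }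
  obtain ⟨x, hx⟩ := Ext.contravariant_sequence_exact₃ hT _ c hc (add_comm 1 q)
  obtain ⟨i, y, rfl⟩ := hgq x
  haveI := hD i
  rw [← hx, ← Ext.comp_assoc _ _ _ (add_comm 1 q) (add_zero q) (by omega),
    Ext.eq_zero_of_injective (I := D.obj i) (hT.extClass.comp y (add_comm 1 q)), Ext.zero_comp]

include hgen hS in
theorem vanish : ∀ (q : ℕ) {N : Sheaf J AddCommGrpCat.{u}} (_ : Nice S N)
    (D : Λ ⥤ Sheaf J AddCommGrpCat.{u}) (_ : ∀ i, Injective (D.obj i)),
    Subsingleton (Ext N (colimit D) (q + 1)) := by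
  intro q
  induction q with
  | zero =>
    intro N hN D hD
    exact subsingleton_of_forall_eq 0 (step 0 (fun M hM => (gen_zero hgen hS hM D).1) D hD hN)
  | succ q ih =>
    intro N hN D hD
    exact subsingleton_of_forall_eq 0 (step (q + 1)
      (fun M hM x => ⟨IsFiltered.nonempty.some, 0, @Subsingleton.elim _ (ih hM D hD) _ _⟩) D hD hN)
where
  step (q : ℕ) {D : Λ ⥤ Sheaf J AddCommGrpCat.{u}}
      (hq : ∀ M, Nice S M → ColimCoh.Gen M q D) (D' := D) (hD : ∀ i, Injective (D.obj i))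
      {N : Sheaf J AddCommGrpCat.{u}} (hN : Nice S N) (c : Ext N (colimit D) (q + 1)) : c = 0 := by
    have hfree : ∀ {K : Sh J} (_ : Base S K) (b : Ext ((zf J).obj K) (colimit D) (q + 1)), b = 0 := by
      intro K hK b
      obtain ⟨L, g, hL, hep, hqs, hk⟩ := exists_kill hgen hS q hK _ b
      exact eq_zero_of_comp_eq_zero ((zf J).map g) q D hD (hq _ (nice_kernel g hqs hK hL)) b hk
    rcases hN.exists with h0 | ⟨K, p, hK, hp, hk⟩
    · rw [← Ext.mk₀_id_comp c, h0.eq_of_src (𝟙 N) 0, Ext.mk₀_zero, Ext.zero_comp]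
    · exact eq_zero_of_comp_eq_zero p q D hD (hq _ hk) c (hfree hK _)

include hgen hS in
theorem gen_and_kill {N : Sheaf J AddCommGrpCat.{u}} (hN : Nice S N) (q : ℕ)
    (D : Λ ⥤ Sheaf J AddCommGrpCat.{u}) : ColimCoh.Gen N q D ∧ ColimCoh.Kill N q D :=
  ColimCoh.gen_and_kill N (fun F => gen_zero hgen hS hN F)
    (fun F hF p => vanish hgen hS p hN F hF) q D

include hgen hS in
theorem preservesColimitsOfShape_ext {N : Sheaf J AddCommGrpCat.{u}} (hN : Nice S N) (q : ℕ) :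
    PreservesColimitsOfShape Λ ((extFunctor.{u} q).obj (op N)) := by
  constructor
  intro D
  obtain ⟨hg, hk⟩ := gen_and_kill hgen hS hN q D
  let Φ := (extFunctor.{u} q).obj (op N)
  refine preservesColimit_of_preserves_colimit_cocone (colimit.isColimit D) ?_
  haveI : ReflectsColimit (D ⋙ Φ) (forget AddCommGrpCat.{u}) := reflectsColimit_of_reflectsIsomorphisms _ _
  apply isColimitOfReflects (forget AddCommGrpCat.{u})
  refine Types.FilteredColimit.isColimitOf _ _ (fun x => ?_) (fun i j xi xj h => ?_)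
  · obtain ⟨i, y, hy⟩ := hg x
    exact ⟨i, y, hy.symm⟩
  · change Ext N (D.obj i) q at xi
    change Ext N (D.obj j) q at xj
    let k := IsFiltered.max i j
    let a : i ⟶ k := IsFiltered.leftToMax i j
    let b : j ⟶ k := IsFiltered.rightToMax i j
    let d := xi.comp (Ext.mk₀ (D.map a)) (add_zero q) - xj.comp (Ext.mk₀ (D.map b)) (add_zero q)
    obtain ⟨l, c, hl⟩ := hk k d (by
      simp only [d, sub_eq_add_neg, Ext.add_comp, Ext.neg_comp, ColimCoh.comp_mk₀_comp, colimit.w]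
      rw [← sub_eq_add_neg, sub_eq_zero]
      exact h)
    refine ⟨l, a ≫ c, b ≫ c, ?_⟩
    simp only [d, sub_eq_add_neg, Ext.add_comp, Ext.neg_comp, ColimCoh.comp_mk₀_comp, ← D.map_comp] at hl
    rw [← sub_eq_add_neg, sub_eq_zero] at hl
    exact hl

end GrothLib.CohTopos20
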