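import Groth.Agent.Lib.CohTopos20.Ext
import Groth.Agent.Lib.ColimCoh.RpushColim
import Groth.Agent.Lib.ModSupp25.QuotUnit

/-!
# Cohomology of coherent objects of an algebraic topos and filtered colimits
-/

set_option autoImplicit false
set_option linter.style.haveILetI false

universe u

open CategoryTheory CategoryTheory.Limits Opposite ToposFin Abelian

namespace GrothLib.CohTopos20

variable {C : Type u} [SmallCategory C] {J : GrothendieckTopology C}
  {Λ : Type u} [SmallCategory Λ] [IsFiltered Λ]

/-- The Ext functors out of the free sheaf on a coherent object of an algebraic topos, and out of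
the cokernel of a morphism of such, commute with filtered colimits. -/
theorem exists_base (hE : IsAlgebraic J) : ∃ S : Set (Sh J), IsGenerating S ∧
    (∀ A ∈ S, IsCoherent A) ∧ ∀ K : Sh J, IsCoherent K → Base S K := by
  obtain ⟨S, hqc, hgen, hpb, heq⟩ := id hE
  exact ⟨S, hgen, fun A hA => Topos.QC.isCoherent_of_mem hqc hgen hpb hA, fun K hK =>
    base_of_algebraic S hE (fun A hA => Topos.QC.isCoherent_of_mem hqc hgen hpb hA) hK⟩

theorem preservesColimitsOfShape_ext_free (hE : IsAlgebraic J) {K : Sh J} (hK : IsCoherent K) (q : ℕ) :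
    PreservesColimitsOfShape Λ ((extFunctor.{u} q).obj (op ((zf J).obj K))) := by
  obtain ⟨S, hgen, hS, hB⟩ := exists_base hE
  exact preservesColimitsOfShape_ext hgen hS (nice_free (hB K hK)) q

theorem preservesColimitsOfShape_ext_coker (hE : IsAlgebraic J) {K L : Sh J} (f : L ⟶ K)
    (hK : IsCoherent K) (hL : IsCoherent L) (q : ℕ) :
    PreservesColimitsOfShape Λ ((extFunctor.{u} q).obj (op (cokernel ((zf J).map f)))) := by
  obtain ⟨S, hgen, hS, hB⟩ := exists_base hE
  exact preservesColimitsOfShape_ext hgen hS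
    (nice_cokernel f (Topos.QC.isQSHom_of_isQS_of_algebraic hE f hL.2) (hB K hK) hL) q

theorem preservesColimitsOfShape_functorH (hE : IsAlgebraic J)
    (hT : IsCoherent (⊤_ (Sh J))) (q : ℕ) :
    PreservesColimitsOfShape Λ (Sheaf.functorH J q : Sheaf J AddCommGrpCat.{u} ⥤ AddCommGrpCat.{u}) := by
  haveI := preservesColimitsOfShape_ext_free (Λ := Λ) hE hT q
  let e : (zf J).obj (⊤_ Sh J) ≅
      (constantSheaf J AddCommGrpCat.{u}).obj (AddCommGrpCat.of (ULift.{u} ℤ)) := ModSupp25.topIso
  exact preservesColimitsOfShape_of_natIso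
    ((extFunctor.{u} q).mapIso e.symm.op ≪≫ NatIso.ofComponents (fun _ => Iso.refl _) fun _ => rfl)

theorem preservesColimit_cohomology_eps (hE : IsAlgebraic J) (U : C)
    (hU : IsCoherent (eps J U)) (q : ℕ) :
    PreservesColimitsOfShape Λ ((Sheaf.cohomologyPresheafFunctor.{u} J q).flip.obj (op U)) := by
  haveI := preservesColimitsOfShape_ext_free (Λ := Λ) hE hU q
  haveI := ModSupp25.isIso_freeEps (J := J) U
  let e : CohCx.freeSheaf J U ≅ (zf J).obj (eps J U) := asIso (ModSupp25.freeEps (J := J) U)
  exact preservesColimitsOfShape_of_natIso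
    ((extFunctor.{u} q).mapIso e.op ≪≫ NatIso.ofComponents (fun _ => Iso.refl _) fun _ => rfl)

end GrothLib.CohTopos20
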